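import Groth.Prelude.Def_SGA1t
import Groth.Agent.Lib.LiftTest.Thickening
import Groth.Agent.Lib.SmoothDiv6.Main

/-!
Kummer covers along a relative normal crossings divisor are formally smooth over the base.
-/

set_option autoImplicit false
set_option linter.style.haveILetI false
set_option backward.isDefEq.respectTransparency false
set_option backward.isDefEq.respectTransparency.types false

universe u

open CategoryTheory CategoryTheory.Limits AlgebraicGeometry IsLocalRing

namespace GrothLib.KumSmooth21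

/-- the value of a global function on a point with values in a ring -/
theorem appTop_SpecMap_fromSpecStalk {X : Scheme.{u}} {B : Type u} [CommRing B] (x : X)
    (g : X.presheaf.stalk x →+* B) (s : Γ(X, ⊤)) :
    (Spec.map (CommRingCat.ofHom g) ≫ X.fromSpecStalk x).appTop s =
      (Scheme.ΓSpecIso (CommRingCat.of B)).inv (g ((X.presheaf.germ ⊤ x trivial).hom s)) := by
  rw [Scheme.Hom.comp_appTop, CommRingCat.comp_apply, Scheme.fromSpecStalk_appTop]
  simp only [CommRingCat.comp_apply]
  have h := congrArg (fun F => F.hom ((X.presheaf.germ ⊤ x trivial).hom s))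
    (Scheme.ΓSpecIso_inv_naturality (CommRingCat.ofHom g))
  simp only [CommRingCat.comp_apply, CommRingCat.hom_ofHom] at h
  exact h.symm

theorem formallySmooth {X S : Scheme.{u}} (f : X ⟶ S) {r : ℕ} (φ : Fin r → Γ(X, ⊤)) (x : X)
    (W : X.Opens) (hxW : x ∈ W) (d : ℕ) (v : ULift.{u} (Fin d) → Γ(W, ⊤))
    (e : SGA1t.vanishingAt φ x → Fin d) (he : Function.Injective e)
    (het : Etale (AffineSpace.homOfVector (W.ι ≫ f) v))
    (hv : ∀ i : SGA1t.vanishingAt φ x,
      v (ULift.up (e i)) = W.topIso.inv (X.presheaf.map (homOfLE le_top).op (φ i.1)))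
    (n : SGA1t.vanishingAt φ x → ℕ) :
    letI A := X.presheaf.stalk x
    letI a : SGA1t.vanishingAt φ x → A := fun i => (X.presheaf.germ ⊤ x trivial).hom (φ i.1)
    letI π : Spec (CommRingCat.of (SGA1t.kummer A a n)) ⟶ Spec (CommRingCat.of A) :=
      Spec.map (CommRingCat.ofHom (algebraMap A (SGA1t.kummer A a n)))
    ∀ x' : Spec (CommRingCat.of (SGA1t.kummer A a n)), π.base x' = IsLocalRing.closedPoint A →
      ((π ≫ X.fromSpecStalk x ≫ f).stalkMap x').hom.FormallySmooth := by
  classical
  set A := X.presheaf.stalk x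
  set a : SGA1t.vanishingAt φ x → A := fun i => (X.presheaf.germ ⊤ x trivial).hom (φ i.1) with ha
  set K := SGA1t.kummer A a n
  set π : Spec (CommRingCat.of K) ⟶ Spec (CommRingCat.of A) :=
    Spec.map (CommRingCat.ofHom (algebraMap A K)) with hπ
  intro x' hx'
  haveI : Finite (SGA1t.vanishingAt φ x) := Finite.of_injective e he
  haveI : Etale (AffineSpace.homOfVector (W.ι ≫ f) v) := het
  have hWf : AffineSpace.homOfVector (W.ι ≫ f) v ≫ 𝔸(ULift.{u} (Fin d); S) ↘ S = W.ι ≫ f :=
    AffineSpace.homOfVector_over _ _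
  -- essentially of finite type
  have hess : ((π ≫ X.fromSpecStalk x ≫ f).stalkMap x').hom.EssFiniteType := by
    have hf : (f.stalkMap x).hom.EssFiniteType := by
      haveI : LocallyOfFiniteType (W.ι ≫ f) := by rw [← hWf]; infer_instance
      let w : W.toScheme := ⟨x, hxW⟩
      let σ := (asIso (W.ι.stalkMap w)).commRingCatIsoToRingEquiv
      have hc : (f.stalkMap x).hom = σ.symm.toRingHom.comp ((W.ι ≫ f).stalkMap w).hom := by
        rw [Scheme.Hom.stalkMap_comp]
        ext z
        exact (σ.symm_apply_apply _).symm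
      rw [hc]
      exact RingHom.EssFiniteType.comp (LocallyOfFiniteType.stalkMap (W.ι ≫ f) w)
        (RingHom.FiniteType.of_surjective _ σ.symm.surjective).essFiniteType
    haveI : LocallyOfFiniteType π :=
      (HasRingHomProperty.Spec_iff (P := @LocallyOfFiniteType)).mpr
        (RingHom.finiteType_algebraMap.mpr inferInstance)
    rw [Scheme.Hom.stalkMap_comp, Scheme.Hom.stalkMap_comp]
    simp only [CommRingCat.hom_comp]
    refine RingHom.EssFiniteType.comp (RingHom.EssFiniteType.comp ?_ ?_) ?_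
    · have key : ∀ z, z = x → (f.stalkMap z).hom.EssFiniteType := by rintro z rfl; exact hf
      apply key
      show X.fromSpecStalk x (π.base x') = x
      rw [hx']
      exact Scheme.fromSpecStalk_closedPoint
    · exact (RingHom.FiniteType.of_surjective _
        (Scheme.Hom.stalkMap_surjective (X.fromSpecStalk x) (π x'))).essFiniteType
    · exact LocallyOfFiniteType.stalkMap π x'
  refine GrothLib.LiftTest.formallySmooth_of_liftsThickenings _ _ hess ?_
  intro B B' _ _ _ _ ψ hψ hψ2 α β hα hcomm
  haveI := GrothLib.LiftTest.isLocalHom_of_surjective ψ hψ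
  obtain ⟨αr, rfl⟩ := Spec.map_surjective α
  let ρ : A →+* B := αr.hom.comp (algebraMap A K)
  have hρπ : Spec.map αr ≫ π = Spec.map (CommRingCat.ofHom ρ) := by
    rw [hπ, ← Spec.map_comp]; rfl
  have hρc : Spec.map (CommRingCat.ofHom ρ) (closedPoint B) = closedPoint A := by
    rw [← hρπ, Scheme.Hom.comp_apply]
    exact (congrArg π.base hα).trans hx'
  let a0 : Spec (CommRingCat.of B) ⟶ X := Spec.map (CommRingCat.ofHom ρ) ≫ X.fromSpecStalk x
  have ha0 : a0 (closedPoint B) = x := by
    show (Spec.map (CommRingCat.ofHom ρ) ≫ X.fromSpecStalk x) (closedPoint B) = x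
    rw [Scheme.Hom.comp_apply, hρc]
    exact Scheme.fromSpecStalk_closedPoint
  have hrange : Set.range a0 ⊆ Set.range W.ι := by
    rintro _ ⟨q, rfl⟩
    rw [Scheme.Opens.range_ι]
    exact ((IsLocalRing.specializes_closedPoint q).map a0.continuous).mem_open W.2 (ha0.symm ▸ hxW)
  let aW : Spec (CommRingCat.of B) ⟶ W.toScheme := IsOpenImmersion.lift W.ι a0 hrange
  have haW : aW ≫ W.ι = a0 := IsOpenImmersion.lift_fac _ _ _
  let ΓB := Scheme.ΓSpecIso (CommRingCat.of B)
  let ΓB' := Scheme.ΓSpecIso (CommRingCat.of B')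
  have hvφ : ∀ (Z : Scheme.{u}) (k : Z ⟶ W.toScheme) (i : SGA1t.vanishingAt φ x),
      k.appTop (v (ULift.up (e i))) = (k ≫ W.ι).appTop (φ i.1) := by
    intro Z k i
    rw [hv i, Scheme.Hom.comp_appTop, CommRingCat.comp_apply, Scheme.Opens.ι_appTop]
    congr 1
    rw [← CommRingCat.comp_apply]
    congr 2
    rw [Scheme.Opens.topIso_inv, ← Functor.map_comp]
    rfl
  -- lifts of the roots
  choose u hu using fun i : SGA1t.vanishingAt φ x =>
    hψ (αr.hom (Ideal.Quotient.mk _ (MvPolynomial.X i)))
  have hroot : ∀ i, ψ (u i) ^ n i = ρ (a i) := by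
    intro i
    rw [hu, ← map_pow, ← map_pow]
    show _ = αr.hom (algebraMap A K (a i))
    congr 1
    rw [IsScalarTower.algebraMap_apply A (MvPolynomial (SGA1t.vanishingAt φ x) A) K,
      MvPolynomial.algebraMap_eq, Ideal.Quotient.algebraMap_eq, Ideal.Quotient.eq]
    exact Ideal.subset_span ⟨i, rfl⟩
  choose l hl using fun j : ULift.{u} (Fin d) => hψ (ΓB.hom (aW.appTop (v j)))
  let c : ULift.{u} (Fin d) → B' := fun j =>
    if h : ∃ i, e i = j.down then u h.choose ^ n h.choose else l j
  have hce : ∀ i, c (ULift.up (e i)) = u i ^ n i := by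
    intro i
    have h : ∃ i', e i' = e i := ⟨i, rfl⟩
    simp only [c, dif_pos h]
    rw [he h.choose_spec]
  have haWe : ∀ i, ΓB.hom (aW.appTop (v (ULift.up (e i)))) = ρ (a i) := by
    intro i
    rw [hvφ, haW, appTop_SpecMap_fromSpecStalk]
    exact Iso.inv_hom_id_apply _ _
  have hψc : ∀ j, ψ (c j) = ΓB.hom (aW.appTop (v j)) := by
    intro j
    by_cases h : ∃ i, e i = j.down
    · obtain ⟨i, hi⟩ := h
      have : j = ULift.up (e i) := by rw [hi]
      subst this
      rw [hce, map_pow, hroot, haWe]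
    · simp only [c, dif_neg h, hl]
  let θ : Spec (CommRingCat.of B') ⟶ 𝔸(ULift.{u} (Fin d); S) :=
    AffineSpace.homOfVector β fun j => ΓB'.inv (c j)
  have hθ : Spec.map (CommRingCat.ofHom ψ) ≫ θ = aW ≫ AffineSpace.homOfVector (W.ι ≫ f) v := by
    refine AffineSpace.hom_ext ?_ fun j => ?_
    · rw [Category.assoc, Category.assoc, AffineSpace.homOfVector_over,
        AffineSpace.homOfVector_over, hcomm, ← Category.assoc aW, haW, ← Category.assoc,
        hρπ]
      simp only [a0, Category.assoc]
    · rw [Scheme.Hom.comp_appTop, Scheme.Hom.comp_appTop, CommRingCat.comp_apply,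
        CommRingCat.comp_apply, AffineSpace.homOfVector_appTop_coord,
        AffineSpace.homOfVector_appTop_coord]
      have h := congrArg (fun F => F.hom (c j))
        (Scheme.ΓSpecIso_inv_naturality (CommRingCat.ofHom ψ))
      simp only [CommRingCat.comp_apply, CommRingCat.hom_ofHom] at h
      refine h.symm.trans ?_
      show ΓB.inv (ψ (c j)) = _
      rw [hψc]
      exact Iso.hom_inv_id_apply _ _
  let w : W.toScheme := ⟨x, hxW⟩
  have haWc : aW (closedPoint B) = w := by
    apply W.ι.injective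
    rw [← Scheme.Hom.comp_apply, haW, ha0]
    rfl
  haveI : Smooth (AffineSpace.homOfVector (W.ι ≫ f) v) := inferInstance
  have h0 : w ∈ (AffineSpace.homOfVector (W.ι ≫ f) v).smoothLocus := by
    rw [Scheme.Hom.smoothLocus_eq_top]; trivial
  obtain ⟨γW, hγ1, hγ2⟩ := GrothLib.LiftTest.liftsThickenings_of_formallySmooth _ w
    (Scheme.Hom.mem_smoothLocus.1 h0) B B' ψ hψ hψ2 aW θ haWc hθ
  have hγc : (γW ≫ W.ι) (closedPoint B') = x := by
    rw [← GrothLib.LiftTest.Spec_map_closedPoint ψ, ← Scheme.Hom.comp_apply,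
      ← Category.assoc, hγ1, haW, ha0]
  obtain ⟨g, -, hg⟩ := GrothLib.LiftTest.exists_fac (γW ≫ W.ι) x hγc
  have hψg : ψ.comp g.hom = ρ := by
    have : Spec.map (g ≫ CommRingCat.ofHom ψ) = Spec.map (CommRingCat.ofHom ρ) := by
      rw [← cancel_mono (X.fromSpecStalk x), Spec.map_comp, Category.assoc, hg, ← Category.assoc,
        hγ1, haW]
    exact congrArg CommRingCat.Hom.hom (Spec.map_injective this)
  have hga : ∀ i, g.hom (a i) = u i ^ n i := by
    intro i
    have h1 : (γW ≫ W.ι).appTop (φ i.1) = ΓB'.inv (c (ULift.up (e i))) := by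
      rw [← hvφ]
      have h2 := congrArg (fun F : Spec (CommRingCat.of B') ⟶ 𝔸(ULift.{u} (Fin d); S) =>
        F.appTop (AffineSpace.coord S (ULift.up (e i)))) hγ2
      simp only [Scheme.Hom.comp_appTop, CommRingCat.comp_apply, θ,
        AffineSpace.homOfVector_appTop_coord] at h2
      exact h2
    rw [← hg, show g = CommRingCat.ofHom g.hom from rfl, appTop_SpecMap_fromSpecStalk] at h1
    rw [← hce]
    exact (ΓB'.symm.commRingCatIsoToRingEquiv).injective h1
  let G0 : MvPolynomial (SGA1t.vanishingAt φ x) A →+* B' := MvPolynomial.eval₂Hom g.hom u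
  have hG0 : ∀ z ∈ Ideal.span (Set.range fun i => (MvPolynomial.X i : MvPolynomial _ A) ^ n i -
      MvPolynomial.C (a i)), G0 z = 0 := by
    suffices h : Ideal.span (Set.range fun i => (MvPolynomial.X i : MvPolynomial _ A) ^ n i -
        MvPolynomial.C (a i)) ≤ RingHom.ker G0 from fun z hz => h hz
    rw [Ideal.span_le]
    rintro _ ⟨i, rfl⟩
    simp [G0, RingHom.mem_ker, hga]
    exact sub_eq_zero.mpr (hga i).symm
  let G : K →+* B' := Ideal.Quotient.lift _ G0 hG0
  have hψG : ψ.comp G = αr.hom := by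
    refine Ideal.Quotient.ringHom_ext (MvPolynomial.ringHom_ext (fun z => ?_) (fun i => ?_))
    · simp only [RingHom.comp_apply, G, Ideal.Quotient.lift_mk, G0, MvPolynomial.eval₂Hom_C]
      exact DFunLike.congr_fun hψg z
    · simp only [RingHom.comp_apply, G, Ideal.Quotient.lift_mk, G0, MvPolynomial.eval₂Hom_X']
      exact hu i
  refine ⟨Spec.map (CommRingCat.ofHom G), ?_, ?_⟩
  · rw [← Spec.map_comp]
    congr 1
    exact CommRingCat.hom_ext hψG
  · have hGA : CommRingCat.ofHom (algebraMap A K) ≫ CommRingCat.ofHom G = g :=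
      CommRingCat.hom_ext (RingHom.ext fun z => by
        show G (Ideal.Quotient.mk _ (MvPolynomial.C z)) = g.hom z
        exact (Ideal.Quotient.lift_mk _ _ _).trans (MvPolynomial.eval₂Hom_C _ _ z))
    rw [hπ, ← Category.assoc, ← Spec.map_comp, hGA, ← Category.assoc, hg, Category.assoc, ← hWf,
      ← Category.assoc, hγ2, AffineSpace.homOfVector_over]

end GrothLib.KumSmooth21
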